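import Cfsg.Agent.Lib.ToddCox.Glue
set_option autoImplicit false
set_option maxRecDepth 100000
namespace Cfsg.Agent.Lib.ToddCox.Fi22C6
def E_0 : ℕ := 0x170c00005800005830000170000170800005400005420000170000160800004c00004c20000160000150c00004400004430000150000140c00004800004830000140000130c00003800003830000130000110800003800003820000110000100c00002c00002c300001000000f04000028000028100000f00000d0c000020000020300000d00000c0400001c00001c100000c0000090800001800001820000090000050400000c00000c10000050000140400005c00005c100001400001204000058000058100001200001004000054000054100001000000f08000050000050200000f00000d0400004c00004c100000d00000c08000048000048200000c00000b04000044000044100000b00000a08000040000040200000a0000090c00003c00003c30000090000080400003800003810000080000070800003400003420000070000060c00003000003030000060000050800002c00002c20000050000040c00002800002830000040000040400002400002410000040000030800002000002020000030000020c00001c00001c30000020000020400001800001810000020000010c00001400001430000010000010800001000001020000010000000c00000c00000c3000000000000080000080000082000000000000040000040000041000000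
end Cfsg.Agent.Lib.ToddCox.Fi22C6
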