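import Cfsg.Agent.Lib.ToddCox.Fi22C6.Data
set_option autoImplicit false
set_option maxRecDepth 100000
namespace Cfsg.Agent.Lib.ToddCox.Fi22C6
theorem wordsGood : allBelow (wordsOK W (relR Rb inv) inv sp) nW 3 = true := by decide +kernel
theorem d0 : allBits (fun k => bif Nat.blt k 23 then chkDef Eo inv k else true) 13 0 = true := by decide +kernel
theorem s0 : chkStream Eo inv W isH 13 23 0x5800003f000015800000c00005800002600001b800007c00005200000100001500000880000660000190000128000004000050000039000010800000c00004c00001c000018800005c00004600000200001200000d4000036000003000010000005000005e00000f00000d800000400003c000012000003000002400002a00000200000e000004000002600000000000c0000030000004000005000007800000800002c00000a0000068000000000020000006000000000000c000016000001000004000000000000a000000 = true := by decide +kernel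
theorem c0 : Covered Eo inv W isH 23 36 := covered_of_stream 13 23 _ s0
def M0 : List ℕ := [nat_lit 0xe800002400004c00001400001b000002800007a00001300001d800004400003600000800001a0000020000032000007000012000004c00002e000006000011000004800006400000700001c800004000002a000005000010000004400002600000400000f000004000006e00000f00000e000003c000060000006000008800001000006a00000d000007800000c00003400000e000006800000800003000000d000019800003000002c00000c0000188000024000016000002000004800000400002800000b000017000000c00002400000a0000038000004000020000009000002800000000001c00000800001780000140000180000070000018000000000014000006000004000001400000c00000400000080000000000080000030000010000008000000000001]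
theorem l0 : chkPointChunks Eo cF (2 * nEv) N ys 16 M0 0 = true := by decide +kernel
theorem k0 : LinksOK Eo cF (2 * nEv) N ys 0 16 := linksOK_of_chunks 16 M0 0 16 rfl l0
theorem l1 : chkPoints Eo cF (2 * nEv) N ys 8 16 0x230000058000088000015000016800005000008e000017000021000004c000056000012000020000004400008a000017000014800004000007c000012000013800003c00005800001700001e0000038000086000016000012800003400007e0000140000118000030000054000016000020800005400007400000e000010800002c00007000000b00000f8000028000050000015 = true := by decide +kernel
theorem k1 : LinksOK Eo cF (2 * nEv) N ys 16 24 := linksOK_of_points 8 16 _ l1
end Cfsg.Agent.Lib.ToddCox.Fi22C6
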